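import Cfsg.Agent.Lib.FischerLarge.U62.Basic

/-!
FischerLarge/U62: words in transvections moving isotropic vectors; vectors are coded by numbers below 256.
-/

set_option autoImplicit false

namespace CfsgLib.FischerLarge.U62

/-- Words from `r0`. -/
def tblAll : List (ℕ × List ℕ) := [(5, [68, 17]), (6, [68, 18]), (7, [68, 19]), (9, [72, 17]), (10, [72, 18]), (11, [72, 19]), (13, [76, 17]), (14, [76, 18]), (15, [76, 19]), (17, [65]), (18, [66]), (19, [67]), (20, [68]), (24, [72]), (28, [76]), (33, [96, 17]), (34, [96, 18]), (35, [96, 19]), (36, [96, 20]), (40, [96, 24]), (44, [96, 28]), (49, [112, 17]), (50, [112, 18]), (51, [112, 19]), (52, [112, 20]), (56, [112, 24]), (60, [112, 28]), (65, [17]), (66, [18]), (67, [19]), (68, [20]), (72, [24]), (76, [28]), (80, []), (85, [111, 96]), (86, [109, 96]), (87, [110, 96]), (89, [103, 96]), (90, [101, 96]), (91, [102, 96]), (93, [107, 96]), (94, [105, 96]), (95, [106, 96]), (96, [19, 17]), (101, [119, 66]), (102, [117, 67]), (103, [118, 65]), (105, [123, 66]), (106,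 [121, 67]), (107, [122, 65]), (109, [127, 66]), (110, [125, 67]), (111, [126, 65]), (112, [18, 17]), (117, [102, 67]), (118, [103, 65]), (119, [101, 66]), (121, [106, 67]), (122, [107, 65]), (123, [105, 66]), (125, [110, 67]), (126, [111, 65]), (127, [109, 66]), (129, [65, 18]), (130, [66, 19]), (131, [67, 17]), (132, [68, 24]), (136, [72, 28]), (140, [76, 20]), (144, [67, 65]), (149, [105, 18]), (150, [106, 19]), (151, [107, 17]), (153, [109, 18]), (154, [110, 19]), (155, [111, 17]), (157, [101, 18]), (158, [102, 19]), (159, [103, 17]), (160, [96, 18, 17]), (165, [121, 18]), (166, [122, 19]), (167, [123, 17]), (169, [125, 18]), (170, [126, 19]), (171, [127, 17]), (173, [117, 18]), (174, [118, 19]), (175, [119, 17]), (176, [112]), (181, [122]), (182, [123]), (183, [121]), (185, [126]), (186, [127]), (187, [125]), (189, [118]), (190, [119]), (191, [117]), (193, [65, 19]), (194, [66, 17]), (195, [67, 18]), (196, [68, 28]), (200, [72, 20]), (204, [76, 24]), (208, [66, 65]), (213, [125, 19]), (214, [126, 17]),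 (215, [127, 18]), (217, [117, 19]), (218, [118, 17]), (219, [119, 18]), (221, [121, 19]), (222, [122, 17]), (223, [123, 18]), (224, [96]), (229, [111]), (230, [109]), (231, [110]), (233, [103]), (234, [101]), (235, [102]), (237, [107]), (238, [105]), (239, [106]), (240, [112, 19, 17]), (245, [109, 19]), (246, [110, 17]), (247, [111, 18]), (249, [101, 19]), (250, [102, 17]), (251, [103, 18]), (253, [105, 19]), (254, [106, 17]), (255, [107, 18])]

/-- Words from `r1` with centres orthogonal to `r0`. -/
def tblOrth : List (ℕ × List ℕ × ℕ) := [(5, [], 1), (6, [7], 2), (7, [6], 3), (9, [6], 2), (10, [], 3), (11, [7], 1), (13, [7], 3), (14, [6], 1), (15, [], 2), (85, [91, 6], 1), (86, [89], 2), (87, [93], 3), (89, [86], 2), (90, [93, 6], 3), (91, [94], 1), (93, [87], 3), (94, [91], 1), (95, [86, 6], 2), (165, [86, 6], 1), (166, [87], 2), (167, [91], 3), (169, [93], 2), (170, [91, 6], 3), (171, [89], 1), (173, [94], 3), (174, [86], 1), (175, [93, 6], 2), (245, [93, 6], 1), (246, [94], 2), (247, [86], 3), (249, [91],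 2), (250, [86, 6], 3), (251, [87], 1), (253, [89], 3), (254, [93], 1), (255, [91, 6], 2)]

/-- Words from `s0` with centres orthogonal to `r0`. -/
def tblFar : List (ℕ × List ℕ × ℕ) := [(17, [], 1), (18, [6, 5], 1), (19, [7, 5], 1), (20, [5], 1), (24, [7], 1), (28, [6], 1), (33, [7, 5], 3), (34, [], 3), (35, [6, 5], 3), (36, [6], 3), (40, [5], 3), (44, [7], 3), (49, [6, 5], 2), (50, [7, 5], 2), (51, [], 2), (52, [7], 2), (56, [6], 2), (60, [5], 2), (65, [80], 1), (66, [91, 87], 1), (67, [94, 86], 1), (68, [80, 5], 1), (72, [80, 7], 1), (76, [80, 6], 1), (96, [95, 87], 2), (101, [86], 2), (102, [90, 5], 2), (103, [91, 5], 2), (105, [90], 2), (106, [94, 7], 2), (107, [95, 7], 2), (109, [94], 2), (110, [86, 6], 2), (111, [87, 6], 2), (112, [90, 86], 3), (117, [87], 3), (118, [94, 5], 3), (119, [95, 5], 3), (121, [91], 3), (122, [86, 7], 3), (123, [87, 7], 3), (125, [95], 3), (126, [90, 6], 3), (127, [91, 6], 3), (129, [94, 86], 3), (130, [80], 3), (131, [91, 87], 3), (132, [80, 6], 3), (136, [80, 5], 3), (140,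 [80, 7], 3), (144, [90, 86], 2), (149, [91, 6], 2), (150, [95], 2), (151, [90, 6], 2), (153, [95, 5], 2), (154, [87], 2), (155, [94, 5], 2), (157, [87, 7], 2), (158, [91], 2), (159, [86, 7], 2), (176, [95, 87], 1), (181, [87, 6], 1), (182, [94], 1), (183, [86, 6], 1), (185, [91, 5], 1), (186, [86], 1), (187, [90, 5], 1), (189, [95, 7], 1), (190, [90], 1), (191, [94, 7], 1), (193, [91, 87], 2), (194, [94, 86], 2), (195, [80], 2), (196, [80, 7], 2), (200, [80, 6], 2), (204, [80, 5], 2), (208, [95, 87], 3), (213, [94, 7], 3), (214, [95, 7], 3), (215, [90], 3), (217, [86, 6], 3), (218, [87, 6], 3), (219, [94], 3), (221, [90, 5], 3), (222, [91, 5], 3), (223, [86], 3), (224, [90, 86], 1), (229, [86, 7], 1), (230, [87, 7], 1), (231, [91], 1), (233, [90, 6], 1), (234, [91, 6], 1), (235, [95], 1), (237, [94, 5], 1), (238, [95, 5], 1), (239, [87], 1)]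

end CfsgLib.FischerLarge.U62
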